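import Cfsg.Agent.H859.StrP.M24
import Cfsg.Agent.H859.BigNum
import Cfsg.Agent.H859.CentC
import Cfsg.Agent.J4Type.ClosingJ4
import Cfsg.Agent.BpSpor.JFourThree
import Cfsg.Agent.H818.StrP.Gen

/-!
# `J4` has no strongly 3-embedded subgroup (helper859)
-/

set_option autoImplicit false
set_option maxRecDepth 100000

namespace Cfsg.Agent.H859.StrP

open Cfsg Subgroup Cfsg.Agent.H998.StrP Cfsg.Agent.EvenType.StrongP
open Cfsg.Agent.J4Type
open Cfsg.Agent.H858.FixJ4 (card_J4)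
open Cfsg.Agent.H859.BigCent (finite_J4 sq_not_dvd)

/-- two commuting elements of order `p` -/
theorem elem_pair {G : Type*} [Group G] [Finite G] {p : ℕ} [hp : Fact p.Prime] {a b : G} (ha : a ^ p = 1)
    (ha1 : a ≠ 1) (hb : b ^ p = 1) (hab : a * b = b * a) (hne : b ∉ zpowers a) :
    IsElementaryAbelian p (closure {a, b}) ∧ p ^ 2 ≤ Nat.card (closure {a, b}) := by
  have hc : IsMulCommutative (closure ({a, b} : Set G)) := by
    refine isMulCommutative_closure ?_
    rintro x (rfl | rfl) y (rfl | rfl)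
    · rfl
    · exact hab
    · exact hab.symm
    · rfl
  have hexp : ∀ x ∈ closure ({a, b} : Set G), x ^ p = 1 := by
    intro x hx
    induction hx using closure_induction with
    | mem x hx =>
      rcases hx with rfl | rfl
      · exact ha
      · exact hb
    | one => exact one_pow _
    | mul x y hx hy ihx ihy =>
      have h1 : x * y = y * x := congrArg Subtype.val
        (hc.is_comm.comm (⟨x, hx⟩ : closure ({a, b} : Set G)) ⟨y, hy⟩)
      rw [Commute.mul_pow h1, ihx, ihy, one_mul]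
    | inv x hx ih => rw [inv_pow, ih, inv_one]
  refine ⟨⟨hc, hexp⟩, ?_⟩
  have hP : IsPGroup p (closure ({a, b} : Set G)) := fun x => ⟨1, by
    rw [pow_one]
    exact Subtype.ext (hexp x x.2)⟩
  obtain ⟨n, hn⟩ := IsPGroup.iff_card.1 hP
  have hle : zpowers a ≤ closure ({a, b} : Set G) := by
    rw [zpowers_le]
    exact subset_closure (by simp)
  have h1 : Nat.card (zpowers a) = p := by rw [Nat.card_zpowers, orderOf_eq_prime ha ha1]
  have h2 : Nat.card (zpowers a) < Nat.card (closure ({a, b} : Set G)) := by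
    by_contra h3
    have h4 := eq_of_le_of_card_ge hle (not_lt.1 h3)
    apply hne
    rw [h4]
    exact subset_closure (by simp)
  rw [h1, hn] at h2
  rw [hn]
  apply Nat.pow_le_pow_right hp.out.pos
  by_contra h3
  have h4 : n ≤ 1 := by omega
  have h5 : p ^ n ≤ p ^ 1 := Nat.pow_le_pow_right hp.out.pos h4
  rw [pow_one] at h5
  omega

open Cfsg.Agent.BpSpor.J4 (w0 wi m1 w0_cube m1_cube comm1 w0_mog m1_mog)

theorem w0_ne : w0 ≠ 1 := by
  intro h
  have h1 := w0_mog 0 1
  rw [h] at h1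
  exact absurd h1 (by decide +kernel)

theorem m1_not_mem : m1 ∉ zpowers w0 := by
  intro h
  have h1 : w0 ∈ MulAction.stabilizer M24 (mog 0 0) := by
    rw [MulAction.mem_stabilizer_iff]
    exact w0_mog 0 0
  have h2 := zpowers_le.2 h1 h
  rw [MulAction.mem_stabilizer_iff] at h2
  have h3 : (m1 : Equiv.Perm GolayPt) (mog 0 0) = mog 0 0 := h2
  rw [m1_mog] at h3
  exact absurd h3 (by decide +kernel)

/-- two commuting elements of order 3 of `M24` -/
theorem exists_nine : ∃ A : Subgroup M24, IsElementaryAbelian 3 A ∧ 3 ^ 2 ≤ Nat.card A := by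
  have f3 : Fact (Nat.Prime 3) := ⟨Nat.prime_three⟩
  exact ⟨_, elem_pair (by rw [pow_succ, pow_two]; exact w0_cube) w0_ne
    (by rw [pow_succ, pow_two]; exact m1_cube) comm1 m1_not_mem⟩

section
variable (F : Cfsg.Agent.J4Type.Compl Cfsg.Spor.J4)

theorem phi_inj : Function.Injective F.φ := Cfsg.Agent.BpSpor.J4.phi_inj F

theorem E_le_of {H : Subgroup Cfsg.Spor.J4} (hH : IsStronglyPEmbedded 3 H) (hφ : ∀ g, F.φ g ∈ H) :
    F.E hex0 ≤ H := by
  have f3 : Fact (Nat.Prime 3) := ⟨Nat.prime_three⟩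
  obtain ⟨A, hA, hA2⟩ := exists_nine
  refine Cfsg.Agent.H818.StrP.coprime_le hH (A := A.map F.φ) ?_ ?_ ?_ ?_ ?_
  · refine ⟨?_, ?_⟩
    · constructor
      constructor
      rintro ⟨_, a, ha, rfl⟩ ⟨_, b, hb, rfl⟩
      have h1 : a * b = b * a := congrArg Subtype.val (hA.1.is_comm.comm (⟨a, ha⟩ : A) ⟨b, hb⟩)
      exact Subtype.ext (by
        change F.φ a * F.φ b = F.φ b * F.φ a
        rw [← map_mul, h1, map_mul])
    · rintro _ ⟨a, ha, rfl⟩
      rw [← map_pow, hA.2 a ha, map_one]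
  · rw [card_map_of_injective (phi_inj F)]
    exact hA2
  · rintro _ ⟨a, -, rfl⟩
    exact hφ a
  · rw [F.E_card _ FusionConj.isHex_hex0]
    norm_num
  · rintro _ ⟨a, -, rfl⟩
    exact F.φ_mem a

end

/-- **`J4` has no strongly 3-embedded subgroup.** -/
theorem j4_3 : NoSP 3 Cfsg.Spor.J4 := by
  intro H' hH'
  have f3 : Fact (Nat.Prime 3) := ⟨Nat.prime_three⟩
  obtain ⟨-, -, ⟨F⟩⟩ := Cfsg.Agent.KFacts.J4.Base.exists_full (K := Cfsg.Spor.J4) ⟨MulEquiv.refl _⟩
  have hcφ : Nat.card F.C.φ.range = Nat.card M24 := Nat.card_congr (MonoidHom.ofInjective (phi_inj F.C)).toEquiv.symm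
  obtain ⟨g, hg⟩ := exists_conj_le_of_noSP hH' (L := F.C.φ.range)
    (by rw [hcφ, Cfsg.Agent.H858.M24Norm.card_M24]; norm_num)
    (m24_3.congr (MonoidHom.ofInjective (phi_inj F.C)).symm)
  -- conjugate
  set H := H'.map (MulAut.conj g⁻¹).toMonoidHom with hHdef
  have hH : IsStronglyPEmbedded 3 H := conj_mem_iff hH' g⁻¹
  have hφ : ∀ x, F.C.φ x ∈ H := by
    intro x
    refine ⟨g * F.C.φ x * g⁻¹, hg ⟨F.C.φ x, ⟨x, rfl⟩, rfl⟩, ?_⟩
    simp [mul_assoc]
  have hN := ClosingJ4.normalizer_le_of F.C H hφ (E_le_of F.C hH hφ)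
  have hd := card_dvd_of_le hN
  have hNc : Nat.card (normalizer (F.C.E hex0 : Set Cfsg.Spor.J4)) = 2 ^ 11 * 244823040 :=
    Cfsg.Agent.H859.CentC.card_NE F.C
  rw [hNc] at hd
  have hi := H.card_mul_index
  rw [card_J4] at hi
  obtain ⟨c, hc⟩ := hd
  obtain ⟨k, hk⟩ := index_mod_pow hH (a := 3) (by rw [card_J4]; norm_num)
  have h3 : H.index ∣ val [(11, 2), (29, 1), (31, 1), (37, 1), (43, 1)] := by
    have h4 : c * H.index = val [(11, 2), (29, 1), (31, 1), (37, 1), (43, 1)] := by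
      apply Nat.eq_of_mul_eq_mul_left (show 0 < 2 ^ 11 * 244823040 by norm_num)
      rw [← mul_assoc, ← hc, hi]
      norm_num [val]
    rw [← h4]
    exact Dvd.intro_left _ rfl
  have h5 := mem_divs (primes_of (by decide)) h3
  have h4 : ∀ n ∈ divs [(11, 2), (29, 1), (31, 1), (37, 1), (43, 1)], n % 27 = 1 →
      n = 1 ∨ n = 13717 ∨ n = 192511 := by
    decide +kernel
  have h6 : H.index % 27 = 1 := by rw [hk]; omega
  have f29 : Fact (Nat.Prime 29) := ⟨by norm_num⟩
  have f31 : Fact (Nat.Prime 31) := ⟨by norm_num⟩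
  rcases h4 _ h5 h6 with h | h | h
  · exact hH.2.1 (index_eq_one.1 h)
  · rw [h] at hi
    have hHc : Nat.card H = 6326133341552640 := by omega
    obtain ⟨d, i, hd, hpd, hdi, hi1⟩ := exists_norm (fun R hR => (BigNum.data31 hR).2)
      (sq_not_dvd (by simp)) (H := H) (by rw [hHc]; norm_num)
    rw [hHc] at hdi
    obtain ⟨e, rfl⟩ := hpd
    have he : e ∣ 10 := Nat.dvd_of_mul_dvd_mul_left (show 0 < 31 by norm_num) hd
    have he' : e ≤ 10 := Nat.le_of_dvd (by norm_num) he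
    interval_cases e <;> omega
  · rw [h] at hi
    have hHc : Nat.card H = 450756429742080 := by omega
    obtain ⟨d, i, hd, hpd, hdi, hi1⟩ := exists_norm (fun R hR => (BigNum.data29' hR).2)
      (sq_not_dvd (by simp)) (H := H) (by rw [hHc]; norm_num)
    rw [hHc] at hdi
    obtain ⟨e, rfl⟩ := hpd
    have he : e ∣ 28 := Nat.dvd_of_mul_dvd_mul_left (show 0 < 29 by norm_num) hd
    have he' : e ≤ 28 := Nat.le_of_dvd (by norm_num) he
    interval_cases e <;> omega

/-- **`J4` has no strongly 3-embedded subgroup.** -/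
theorem nosp_j4_3 {G : Type*} [Group G] [Finite G] (h : Cfsg.Spor.IsoJ4 G) : NoSP 3 G := by
  have f3 : Fact (Nat.Prime 3) := ⟨Nat.prime_three⟩
  obtain ⟨e⟩ := h
  exact j4_3.congr e

end Cfsg.Agent.H859.StrP
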